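import Cfsg.Agent.Lib.Helper85.FusResLimit2
import Cfsg.Agent.Lib.Helper85.PIdxFrat

namespace Cfsg.Agent.Lib.Helper60.RedC

open Cfsg

theorem pow_relIndex_mem {Q : Type*} [Group Q] (N K : Subgroup Q) [N.Normal] {x : Q}
    (hx : x ∈ K) : x ^ N.relIndex K ∈ N := by
  have h := Subgroup.pow_index_mem (N.subgroupOf K) (⟨x, hx⟩ : K)
  rw [Subgroup.mem_subgroupOf] at h
  simpa [Subgroup.relIndex] using h

theorem exists_chain {X : Type*} [Group X] [Finite X] (p : ℕ) [Fact p.Prime] (A A₀ : Subgroup X)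
    (hle : A₀ ≤ A) [hn : (A₀.subgroupOf A).Normal]
    (hsolv : IsPSolvable p (↥A ⧸ A₀.subgroupOf A)) :
    ∃ (n : ℕ) (𝒜 : ℕ → Subgroup X), 𝒜 0 = A₀ ∧ 𝒜 n = A ∧ (∀ i, A₀ ≤ 𝒜 i) ∧
      (∀ i, ∀ a ∈ A, ∀ k ∈ 𝒜 i, a * k * a⁻¹ ∈ 𝒜 i) ∧
      ∀ i, i < n → (∀ a ∈ 𝒜 (i + 1), (∃ k : ℕ, a ^ p ^ k = 1) → a ∈ 𝒜 i) ∨
        (∀ a ∈ 𝒜 (i + 1), (orderOf a).Coprime p → a ∈ 𝒜 i) := by
  obtain ⟨n, H, h0, hlast, hmono, hnorm, hstep⟩ := hsolv
  have hlt : ∀ i : ℕ, min i n < n + 1 := fun i => by omega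
  have hmem : ∀ (i : ℕ) (x : X),
      x ∈ ((H ⟨min i n, hlt i⟩).comap (QuotientGroup.mk' (A₀.subgroupOf A))).map A.subtype ↔
        ∃ hx : x ∈ A, QuotientGroup.mk' (A₀.subgroupOf A) ⟨x, hx⟩ ∈ H ⟨min i n, hlt i⟩ := by
    intro i x
    constructor
    · rintro ⟨y, hy, rfl⟩
      exact ⟨y.2, hy⟩
    · rintro ⟨hx, hy⟩
      exact ⟨⟨x, hx⟩, hy, rfl⟩
  refine ⟨n, fun i => ((H ⟨min i n, hlt i⟩).comap
    (QuotientGroup.mk' (A₀.subgroupOf A))).map A.subtype, ?_, ?_, ?_, ?_, ?_⟩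
  · ext x
    rw [hmem]
    have e : (⟨min 0 n, hlt 0⟩ : Fin (n + 1)) = 0 := by
      ext; simp
    rw [e, h0]
    constructor
    · rintro ⟨hx, hy⟩
      rw [Subgroup.mem_bot, QuotientGroup.mk'_apply, QuotientGroup.eq_one_iff,
        Subgroup.mem_subgroupOf] at hy
      exact hy
    · intro hx
      refine ⟨hle hx, ?_⟩
      rw [Subgroup.mem_bot, QuotientGroup.mk'_apply, QuotientGroup.eq_one_iff,
        Subgroup.mem_subgroupOf]
      exact hx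
  · ext x
    rw [hmem]
    have e : (⟨min n n, hlt n⟩ : Fin (n + 1)) = Fin.last n := by
      ext; simp
    rw [e, hlast]
    constructor
    · rintro ⟨hx, -⟩
      exact hx
    · intro hx
      exact ⟨hx, Subgroup.mem_top _⟩
  · intro i x hx
    show x ∈ _
    rw [hmem]
    refine ⟨hle hx, ?_⟩
    have : QuotientGroup.mk' (A₀.subgroupOf A) ⟨x, hle hx⟩ = 1 := by
      rw [QuotientGroup.mk'_apply, QuotientGroup.eq_one_iff, Subgroup.mem_subgroupOf]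
      exact hx
    rw [this]
    exact Subgroup.one_mem _
  · intro i a ha k hk
    show _ ∈ _
    have hk' : k ∈ ((H ⟨min i n, hlt i⟩).comap
      (QuotientGroup.mk' (A₀.subgroupOf A))).map A.subtype := hk
    rw [hmem] at hk' ⊢
    obtain ⟨hkA, hk2⟩ := hk'
    refine ⟨A.mul_mem (A.mul_mem ha hkA) (A.inv_mem ha), ?_⟩
    have e : (⟨a * k * a⁻¹, A.mul_mem (A.mul_mem ha hkA) (A.inv_mem ha)⟩ : A)
        = ⟨a, ha⟩ * ⟨k, hkA⟩ * ⟨a, ha⟩⁻¹ := rfl
    rw [e, map_mul, map_mul, map_inv]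
    exact (hnorm _).conj_mem _ hk2 _
  · intro i hi
    have e1 : (⟨min i n, hlt i⟩ : Fin (n + 1)) = (⟨i, hi⟩ : Fin n).castSucc := by
      ext; simp; omega
    have e2 : (⟨min (i + 1) n, hlt (i + 1)⟩ : Fin (n + 1)) = (⟨i, hi⟩ : Fin n).succ := by
      ext; simp; omega
    haveI := hnorm (⟨i, hi⟩ : Fin n).castSucc
    rcases hstep ⟨i, hi⟩ with ⟨m, hm⟩ | hc
    · right
      intro a ha hco
      show a ∈ _
      have ha' : a ∈ ((H ⟨min (i + 1) n, hlt (i + 1)⟩).comap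
        (QuotientGroup.mk' (A₀.subgroupOf A))).map A.subtype := ha
      rw [hmem] at ha' ⊢
      obtain ⟨haA, ha2⟩ := ha'
      refine ⟨haA, ?_⟩
      rw [e1]
      rw [e2] at ha2
      have h1 := pow_relIndex_mem (H (⟨i, hi⟩ : Fin n).castSucc) _ ha2
      rw [hm] at h1
      have h2 : (QuotientGroup.mk' (A₀.subgroupOf A) ⟨a, haA⟩) ^ orderOf a
          ∈ H (⟨i, hi⟩ : Fin n).castSucc := by
        rw [← map_pow]
        have : (⟨a, haA⟩ : A) ^ orderOf a = 1 := by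
          ext; simp [pow_orderOf_eq_one]
        rw [this, map_one]
        exact Subgroup.one_mem _
      exact Cfsg.Agent.Lib.Helper85.mem_of_pow_mem_coprime (Nat.Coprime.pow_right m hco) h2 h1
    · left
      rintro a ha ⟨k, hk⟩
      show a ∈ _
      have ha' : a ∈ ((H ⟨min (i + 1) n, hlt (i + 1)⟩).comap
        (QuotientGroup.mk' (A₀.subgroupOf A))).map A.subtype := ha
      rw [hmem] at ha' ⊢
      obtain ⟨haA, ha2⟩ := ha'
      refine ⟨haA, ?_⟩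
      rw [e1]
      rw [e2] at ha2
      have h1 := pow_relIndex_mem (H (⟨i, hi⟩ : Fin n).castSucc) _ ha2
      have h2 : (QuotientGroup.mk' (A₀.subgroupOf A) ⟨a, haA⟩) ^ (p ^ k)
          ∈ H (⟨i, hi⟩ : Fin n).castSucc := by
        rw [← map_pow]
        have : (⟨a, haA⟩ : A) ^ (p ^ k) = 1 := by
          ext; simp [hk]
        rw [this, map_one]
        exact Subgroup.one_mem _
      exact Cfsg.Agent.Lib.Helper85.mem_of_pow_mem_coprime (Nat.Coprime.pow_right k hc) h1 h2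

end Cfsg.Agent.Lib.Helper60.RedC
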